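import Mathlib
import Cfsg.Prelude.Def_GeometricClasses
import Cfsg.Agent.Helper28.S5658.Lib

/-!
# S5655, half `k ≥ 2` (`GU_k(q) ≀ S_t` is maximal in `SU_n(q)`): definitions

Model: `K` a field with `q ^ 2` elements, `D : Frob K q` (`D.σ x = x ^ q`), `h = Cfsg.hermForm n K q`
(`h x y = ∑ x i * (y i) ^ q`, linear in `x`, `σ`-semilinear in `y`), `T v c = Cfsg.unitaryTransvection n q v c`
(`z ↦ z + (c * h z v) • v`, an isometry of determinant 1 when `h v v = 0` and `σ c = -c`).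
Vocabulary of `Cfsg.Agent.Helper2.SUGen`, `Cfsg.Agent.S2644` (`Pres`), `Cfsg.Agent.Helper28.SimMax` (`MS`),
`Cfsg.Agent.S5658P` (`pres_T`, `det_T`, `T_smul`, `conj_T`, `MS_conj_T`, `mem_G_iff`, ...).
The blocks are `B : Fin t → Submodule K (Fin n → K)` (the letter `D` is the Frobenius datum).
-/

set_option autoImplicit false

namespace Cfsg.Agent.S5655P

open Matrix Module
open Cfsg.Agent.S2644 Cfsg.Agent.Helper2.SUGen Cfsg.Agent.Helper28.SimMax Cfsg.Agent.S5658P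

variable {K : Type*} [Field K] {q n : ℕ}

/-- working hypotheses: an orthogonal decomposition into `t ≥ 2` nondegenerate blocks of dimension `k ≥ 2`,
with `k ≥ 3` or `t ≥ 3`. -/
structure UD (q : ℕ) {t : ℕ} (k : ℕ) (B : Fin t → Submodule K (Fin n → K)) : Prop where
  two_le_t : 2 ≤ t
  two_le_k : 2 ≤ k
  three : 3 ≤ k ∨ 3 ≤ t
  finrank_eq : ∀ i, finrank K (B i) = k
  nd : ∀ i, NonDeg q (B i)
  orth : ∀ i j, i ≠ j → ∀ u ∈ B i, ∀ v ∈ B j, Cfsg.hermForm n K q u v = 0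
  dec : ∀ v : Fin n → K, ∃ c : Fin t → (Fin n → K), (∀ i, c i ∈ B i) ∧ ∑ i, c i = v

/-- the matrix `A` permutes the blocks -/
def StabM {t : ℕ} (B : Fin t → Submodule K (Fin n → K)) (A : Matrix (Fin n) (Fin n) K) : Prop :=
  ∃ σ : Equiv.Perm (Fin t), ∀ i, ∀ x ∈ B i, A *ᵥ x ∈ B (σ i)

/-- the matrices of `H = Stab(B) ∩ SU_n(q)` -/
def HH (q : ℕ) {t : ℕ} (B : Fin t → Submodule K (Fin n → K)) : Set (Matrix (Fin n) (Fin n) K) :=
  {A | Pres (q := q) A ∧ A.det = 1 ∧ StabM B A}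

/-- the standing hypotheses on the overgroup `M`: `H ≤ M ≤ SU_n(q)` -/
structure Over (q : ℕ) {t : ℕ} (B : Fin t → Submodule K (Fin n → K))
    (M : Subgroup (Matrix.GeneralLinearGroup (Fin n) K)) : Prop where
  le : M ≤ Cfsg.GU n K q ⊓ Cfsg.Geo.specialLinear (Fin n) K
  ge : HH q B ⊆ MS M

/-- the isotropic vectors whose full root group `{T v c | σ c = -c}` lies in `M` -/
def SS (D : Frob K q) (M : Subgroup (Matrix.GeneralLinearGroup (Fin n) K)) : Set (Fin n → K) :=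
  {v | Cfsg.hermForm n K q v v = 0 ∧
    ∀ c : K, D.σ c = -c → Cfsg.unitaryTransvection n q v c ∈ MS M}

/-- all vectors `x + y`, `x ∈ B a`, `y ∈ B b` both isotropic, are in `SS M` -/
def AllA (D : Frob K q) {t : ℕ} (B : Fin t → Submodule K (Fin n → K))
    (M : Subgroup (Matrix.GeneralLinearGroup (Fin n) K)) (a b : Fin t) : Prop :=
  ∀ x ∈ B a, ∀ y ∈ B b, Cfsg.hermForm n K q x x = 0 → Cfsg.hermForm n K q y y = 0 → x + y ∈ SS D M

/-- all isotropic vectors `x + y`, `x ∈ B a`, `y ∈ B b` both anisotropic, are in `SS M` -/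
def AllB (D : Frob K q) {t : ℕ} (B : Fin t → Submodule K (Fin n → K))
    (M : Subgroup (Matrix.GeneralLinearGroup (Fin n) K)) (a b : Fin t) : Prop :=
  ∀ x ∈ B a, ∀ y ∈ B b, Cfsg.hermForm n K q x x + Cfsg.hermForm n K q y y = 0 →
    Cfsg.hermForm n K q x x ≠ 0 → x + y ∈ SS D M

/-- all isotropic vectors of `B a ⊕ B b` are in `SS M` -/
def AllPair (D : Frob K q) {t : ℕ} (B : Fin t → Submodule K (Fin n → K))
    (M : Subgroup (Matrix.GeneralLinearGroup (Fin n) K)) (a b : Fin t) : Prop :=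
  ∀ x ∈ B a, ∀ y ∈ B b, Cfsg.hermForm n K q x x + Cfsg.hermForm n K q y y = 0 → x + y ∈ SS D M

end Cfsg.Agent.S5655P
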