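import Mathlib
import Cfsg.Prelude.Def_GeometricClasses
import Cfsg.Agent.Helper29.S5655.Defs
import Cfsg.Agent.Helper18.S5655BSTEP0
import Cfsg.Agent.Helper29.S5655BREDUCE2
import Cfsg.Agent.Helper18.S5655BREDUCE
import Cfsg.Agent.Helper23.S5655BPA
import Cfsg.Agent.Helper26.S5655BPAB
import Cfsg.Agent.Helper23.S5655BPB
import Cfsg.Agent.Helper29.S5655BPBA
import Cfsg.Agent.Helper9.S5655BCONJ
import Cfsg.Agent.Helper18.S5655BGENP
import Cfsg.Agent.Helper23.S5655BFULL
import Cfsg.Agent.Helper26.S5655BPROPER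
import Cfsg.Agent.Helper17.S5655BRIDGE1
import Cfsg.Agent.Helper17.S5655BRIDGE2

set_option autoImplicit false

namespace Cfsg.Agent.S5655P

open Matrix Module
open Cfsg.Agent.S2644 Cfsg.Agent.Helper2.SUGen Cfsg.Agent.Helper28.SimMax Cfsg.Agent.S5658P

variable {K : Type*} [Field K] {q n t k : ℕ}

local notation "h" => Cfsg.hermForm n K q
local notation "T" => Cfsg.unitaryTransvection n q

/-- norm of a sum of two vectors in different blocks -/
theorem ASM.norm_add (D : Frob K q) {B : Fin t → Submodule K (Fin n → K)} (hB : UD q k B)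
    {a b : Fin t} (hab : a ≠ b) {x y : Fin n → K} (hx : x ∈ B a) (hy : y ∈ B b) :
    h (x + y) (x + y) = h x x + h y y := by
  rw [h_add_left, h_add_right D, h_add_right D, hB.orth a b hab x hx y hy,
    hB.orth b a (Ne.symm hab) y hy x hx]
  ring

/-- `AllA` and `AllB` give `AllPair` -/
theorem ASM.allPair (D : Frob K q) {B : Fin t → Submodule K (Fin n → K)}
    {M : Subgroup (Matrix.GeneralLinearGroup (Fin n) K)} {a b : Fin t}
    (hA : AllA D B M a b) (hBB : AllB D B M a b) : AllPair D B M a b := by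
  intro x hx y hy hN
  by_cases hxx : h x x = 0
  · have hyy : h y y = 0 := by rwa [hxx, zero_add] at hN
    exact hA x hx y hy hxx hyy
  · exact hBB x hx y hy hN hxx

/-- the `GL` element of a matrix of determinant one -/
noncomputable def ASM.gl (A : Matrix (Fin n) (Fin n) K) (hdet : A.det = 1) :
    Matrix.GeneralLinearGroup (Fin n) K :=
  Matrix.GeneralLinearGroup.mkOfDetNeZero A (by rw [hdet]; exact one_ne_zero)

theorem ASM.gl_val (A : Matrix (Fin n) (Fin n) K) (hdet : A.det = 1) :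
    ((ASM.gl A hdet : Matrix.GeneralLinearGroup (Fin n) K) : Matrix (Fin n) (Fin n) K) = A := rfl

/-- the core: a proper overgroup of `H` inside `SU` is `SU` -/
theorem ASM.top [Fintype K] (D : Frob K q) (hK : Fintype.card K = q ^ 2) (hn : 13 ≤ n)
    {B : Fin t → Submodule K (Fin n → K)} (hB : UD q k B) (hex : ¬ (k = 2 ∧ q = 2))
    {M : Subgroup (Matrix.GeneralLinearGroup (Fin n) K)} (hM : Over q B M)
    (g : Matrix.GeneralLinearGroup (Fin n) K) (hg : g ∈ M)
    (hnot : ¬ StabM B (g : Matrix (Fin n) (Fin n) K)) :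
    Cfsg.GU n K q ⊓ Cfsg.Geo.specialLinear (Fin n) K ≤ M := by
  have hq2 : 2 ≤ q := by
    have h1 : 1 < Fintype.card K := Fintype.one_lt_card
    rw [hK] at h1
    by_contra hlt
    push Not at hlt
    interval_cases q <;> simp at h1
  have hk2 := hB.two_le_k
  obtain ⟨v₀, hv₀, hmix⟩ := STEP0.exists_mixed D hK hB hM g hg hnot
  -- a pair of blocks with `AllPair`
  have hpair : ∃ a b : Fin t, a ≠ b ∧ AllPair D B M a b := by
    rcases Nat.lt_or_ge q 3 with hq | hq
    · have hq' : q = 2 := by omega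
      have hk3 : 3 ≤ k := by
        by_contra hlt
        exact hex ⟨by omega, hq'⟩
      obtain ⟨a, b, hab, x, hx, y, hy, hx0, hy0, hxy⟩ :=
        REDUCE2.exists_pair D hK hB hM hq' hk3 hv₀ hmix
      have hN : h x x + h y y = 0 := by
        rw [← ASM.norm_add D hB hab hx hy]; exact hxy.1
      refine ⟨a, b, hab, ?_⟩
      by_cases hxx : h x x = 0
      · have hyy : h y y = 0 := by rwa [hxx, zero_add] at hN
        have hA := PA.allA_of_one D hK hB hM hab hx hy hx0 hy0 hxx hyy hxy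
        obtain ⟨x', hx', y', hy', hN', hne', hxy'⟩ := PAB.oneB_of_allA D hK hB hM hab hA
        exact ASM.allPair D hA (PB.allB_of_one D hK hB hM hab hx' hy' hN' hne' hxy')
      · have hBB := PB.allB_of_one D hK hB hM hab hx hy hN hxx hxy
        exact ASM.allPair D (PBA.allA_of_allB D hK hB hM hk3 hab hBB) hBB
    · obtain ⟨a, b, hab, x, hx, y, hy, hx0, hy0, hxx, hyy, hxy⟩ :=
        REDUCE.exists_pair D hK hB hM hq hv₀ hmix
      refine ⟨a, b, hab, ?_⟩
      have hA := PA.allA_of_one D hK hB hM hab hx hy hx0 hy0 hxx hyy hxy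
      obtain ⟨x', hx', y', hy', hN', hne', hxy'⟩ := PAB.oneB_of_allA D hK hB hM hab hA
      exact ASM.allPair D hA (PB.allB_of_one D hK hB hM hab hx' hy' hN' hne' hxy')
  obtain ⟨a, b, hab, hP⟩ := hpair
  have hall := CONJ.all D hK hB hM hab hP
  have h3 : 3 ≤ k ∨ 3 ≤ q := by
    by_contra hcon
    push Not at hcon
    exact hex ⟨by omega, by omega⟩
  exact FULL.top D hK (by omega) (GENP.all D hK hB hM h3 hall)

/-- **the stabiliser of a decomposition into nondegenerate blocks of dimension `k ≥ 2` is maximal in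
`SU_n(q)`** -/
theorem Block.maximal {F : Type*} [Field F] [Fintype F] (n q : ℕ) (hF : Fintype.card F = q ^ 2)
    (hn : 13 ≤ n) {t : ℕ} (k : ℕ) (hk : 2 ≤ k) (D : Fin t → Submodule F (Fin n → F))
    (hD : Cfsg.Geo.IsNondegenerateMDecomposition (Cfsg.hermForm n F q) k D)
    (hex : ¬ (k = 2 ∧ q = 2)) :
    Cfsg.Geo.IsMaximalIn (Cfsg.GU n F q ⊓ Cfsg.Geo.specialLinear (Fin n) F)
      (Cfsg.Geo.decompositionStabilizer D ⊓
        (Cfsg.GU n F q ⊓ Cfsg.Geo.specialLinear (Fin n) F)) := by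
  obtain ⟨Φ⟩ := BRIDGE1.frob (K := F) hF
  have hB : UD q k D := BRIDGE1.ud hF hn hk hD
  refine ⟨lt_of_le_of_ne inf_le_right ?_, ?_⟩
  · intro heq
    obtain ⟨A, hP, hdet, hnot⟩ := PROPER.exists Φ hF hB
    have hG : ASM.gl A hdet ∈ Cfsg.GU n F q ⊓ Cfsg.Geo.specialLinear (Fin n) F :=
      (mem_G_iff _).2 ⟨hP, hdet⟩
    rw [← heq] at hG
    exact hnot ((BRIDGE2.mem_iff hF hB _).1 hG).2.2
  · intro M hHM hMG
    by_cases hMH : M = Cfsg.Geo.decompositionStabilizer D ⊓
        (Cfsg.GU n F q ⊓ Cfsg.Geo.specialLinear (Fin n) F)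
    · exact Or.inl hMH
    · right
      have hOver : Over q D M := by
        refine ⟨hMG, ?_⟩
        intro A hA
        have hmem := (BRIDGE2.mem_iff hF hB (ASM.gl A hA.2.1)).2 hA
        exact ⟨ASM.gl A hA.2.1, hHM hmem, rfl⟩
      obtain ⟨g, hgM, hgH⟩ : ∃ g ∈ M, g ∉ Cfsg.Geo.decompositionStabilizer D ⊓
          (Cfsg.GU n F q ⊓ Cfsg.Geo.specialLinear (Fin n) F) := by
        by_contra hcon
        push Not at hcon
        exact hMH (le_antisymm hcon hHM)
      have hnot : ¬ StabM D (g : Matrix (Fin n) (Fin n) F) := by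
        intro hst
        apply hgH
        have hG := (mem_G_iff g).1 (hMG hgM)
        exact (BRIDGE2.mem_iff hF hB g).2 ⟨hG.1, hG.2, hst⟩
      exact le_antisymm hMG (ASM.top Φ hF hn hB hex hOver g hgM hnot)

end Cfsg.Agent.S5655P
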